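import Groth.Agent.DerCompLib.SecData
import Groth.Agent.DerCompLib.Locality
import Groth.Agent.DerCompLib.SiteFlat

/-!
# Modules killed by an ideal along a change of rings that is bijective modulo the ideal

`φ : O ⟶ O'`, global sections `a` of `O` such that `O/(a) ⟶ O'/(φ a)` is bijective. A module killed
by `a` is canonically an `O'`-module, and the unit of extension of scalars at it is invertible.
-/

set_option autoImplicit false
set_option backward.isDefEq.respectTransparency false
set_option backward.isDefEq.respectTransparency.types false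
set_option linter.all false

universe u

open CategoryTheory CategoryTheory.Limits Opposite

namespace Groth.Agent.FlatCx12.DerEquiv

open Groth.Agent.DerCompLib

variable {C : Type u} [SmallCategory C] {J : GrothendieckTopology C} {O O' : Sheaf J CommRingCat.{u}}
  (φ : O ⟶ O') (a : List (DerComp.GSec O))

/-- The ring map on sections. -/
abbrev phiApp (U : C) : (O.obj.obj (op U) : Type u) →+* (O'.obj.obj (op U) : Type u) :=
  (φ.hom.app (op U)).hom

lemma phiApp_res {U W : C} (g : W ⟶ U) (r : O.obj.obj (op U)) :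
    (O'.obj.map g.op).hom (phiApp φ U r) = phiApp φ W ((O.obj.map g.op).hom r) :=
  (ConcreteCategory.congr_hom (φ.hom.naturality g.op) r).symm

lemma res_res' {O : Sheaf J CommRingCat.{u}} {U V W : C} (g : V ⟶ U) (k : W ⟶ V)
    (r : O.obj.obj (op U)) :
    (O.obj.map k.op).hom ((O.obj.map g.op).hom r) = (O.obj.map (k ≫ g).op).hom r := by
  rw [← ConcreteCategory.comp_apply, ← O.obj.map_comp, ← op_comp]

/-- The ideal of sections generated by `a`. -/
def aI (U : C) : Ideal (O.obj.obj (op U) : Type u) :=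
  Ideal.span (Set.range fun k : Fin a.length => (a.get k).1 U)

/-- Its extension. -/
def aI' (U : C) : Ideal (O'.obj.obj (op U) : Type u) := (aI a U).map (phiApp φ U)

lemma gSec_res (s : DerComp.GSec O) {U W : C} (g : W ⟶ U) :
    (O.obj.map g.op).hom (s.1 U) = s.1 W := s.2 g

lemma aI_res {U W : C} (g : W ⟶ U) {r : O.obj.obj (op U)} (h : r ∈ aI a U) :
    (O.obj.map g.op).hom r ∈ aI a W := by
  have h' := Ideal.mem_map_of_mem (O.obj.map g.op).hom h
  rw [aI, Ideal.map_span, ← Set.range_comp] at h'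
  refine Ideal.span_mono ?_ h'
  rintro _ ⟨k, rfl⟩
  exact ⟨k, (gSec_res _ g).symm⟩

lemma aI'_res {U W : C} (g : W ⟶ U) {r : O'.obj.obj (op U)} (h : r ∈ aI' φ a U) :
    (O'.obj.map g.op).hom r ∈ aI' φ a W := by
  have h' := Ideal.mem_map_of_mem (O'.obj.map g.op).hom h
  rw [aI', Ideal.map_map] at h'
  refine Ideal.map_le_iff_le_comap.2 (fun x hx => ?_) h'
  show (O'.obj.map g.op).hom (phiApp φ U x) ∈ aI' φ a W
  rw [phiApp_res]
  exact Ideal.mem_map_of_mem _ (aI_res a g hx)

/-- `O ⟶ O'` is locally surjective modulo `a`. -/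
def CondA : Prop := ∀ (U : C) (f' : O'.obj.obj (op U)),
  Loc J U fun W g => ∃ b : O.obj.obj (op W), (O'.obj.map g.op).hom f' - phiApp φ W b ∈ aI' φ a W

/-- `O ⟶ O'` is injective modulo `a`. -/
def CondB : Prop := ∀ (U : C) (f : O.obj.obj (op U)), phiApp φ U f ∈ aI' φ a U →
  Loc J U fun W g => (O.obj.map g.op).hom f ∈ aI a W

/-- `M` is killed by `a`. -/
def Killed (M : ModSite.Mod O) : Prop := ∀ s ∈ a, s • 𝟙 M = 0

variable {a}

lemma Killed.smul_eq_zero {M : ModSite.Mod O} (hM : Killed a M) {U : C} {r : O.obj.obj (op U)}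
    (hr : r ∈ aI a U) (x : Sec M U) : r • x = 0 := by
  induction hr using Submodule.span_induction with
  | mem r hr =>
    obtain ⟨k, rfl⟩ := hr
    have h := congrArg (fun q : M ⟶ M => secMap q U x) (hM (a.get k) (List.get_mem a k))
    simp only [secMap_zero] at h
    exact h
  | zero => exact zero_smul _ x
  | add r r' _ _ h h' => rw [add_smul, h, h', add_zero]
  | smul c r _ h => rw [smul_eq_mul, mul_smul, h, smul_zero]

section

variable {M : ModSite.Mod O} (hA : CondA φ a) (hB : CondB φ a) (hM : Killed a M)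

/-- `b` represents `f'` on `g`. -/
def Rep (a : List (DerComp.GSec O)) {U W : C} (g : W ⟶ U) (f' : O'.obj.obj (op U))
    (b : O.obj.obj (op W)) : Prop :=
  (O'.obj.map g.op).hom f' - phiApp φ W b ∈ aI' φ a W

lemma Rep.res {U W W' : C} {g : W ⟶ U} {f' : O'.obj.obj (op U)} {b : O.obj.obj (op W)}
    (h : Rep φ a g f' b) (k : W' ⟶ W) : Rep φ a (k ≫ g) f' ((O.obj.map k.op).hom b) := by
  have h' := aI'_res φ a k h
  rw [map_sub, phiApp_res, res_res'] at h'
  exact h'

include hB hM in
lemma rep_eq {U W : C} {g : W ⟶ U} {f' : O'.obj.obj (op U)} {b b' : O.obj.obj (op W)}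
    (h : Rep φ a g f' b) (h' : Rep φ a g f' b') (x : Sec M W) : b • x = b' • x := by
  have h0 : phiApp φ W (b - b') ∈ aI' φ a W := by
    have e : phiApp φ W (b - b') = ((O'.obj.map g.op).hom f' - phiApp φ W b') -
        ((O'.obj.map g.op).hom f' - phiApp φ W b) := by rw [map_sub]; abel
    exact e ▸ (aI' φ a W).sub_mem h' h
  obtain ⟨S, hS, hS'⟩ := hB W _ h0
  refine sec_ext M S hS _ _ fun V k hk => sub_eq_zero.1 ?_
  rw [secRes_smul, secRes_smul, ← sub_smul, ← map_sub]
  exact hM.smul_eq_zero (hS' k hk) _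

/-- `y` is the product of `f'` and `x`. -/
def IsAct {U : C} (f' : O'.obj.obj (op U)) (x y : Sec M U) : Prop :=
  ∀ ⦃W : C⦄ (g : W ⟶ U) (b : O.obj.obj (op W)), Rep φ a g f' b → secRes M g y = b • secRes M g x

include hA hB hM in
theorem exists_isAct {U : C} (f' : O'.obj.obj (op U)) (x : Sec M U) :
    ∃ y, IsAct φ (a := a) f' x y := by
  obtain ⟨S, hS, hS'⟩ := hA U f'
  choose b hb using hS'
  have hP : Presieve.IsSheafFor (M.val.presheaf ⋙ forget AddCommGrpCat.{u}) S.arrows :=
    ((CategoryTheory.isSheaf_iff_isSheaf_of_type _ _).1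
      ((Presheaf.isSheaf_iff_isSheaf_forget J M.val.presheaf (forget AddCommGrpCat.{u})).1
        M.isSheaf)) S hS
  let fam : Presieve.FamilyOfElements (M.val.presheaf ⋙ forget AddCommGrpCat.{u}) S.arrows :=
    fun W g hg => (b g hg • secRes M g x : Sec M W)
  have hc : fam.Compatible := fun W₁ W₂ Z g₁ g₂ f₁ f₂ h₁ h₂ e => by
    show secRes M g₁ (b f₁ h₁ • secRes M f₁ x) = secRes M g₂ (b f₂ h₂ • secRes M f₂ x)
    have r₂ : Rep φ a (g₁ ≫ f₁) f' ((O.obj.map g₂.op).hom (b f₂ h₂)) := e ▸ Rep.res φ (hb f₂ h₂) g₂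
    rw [secRes_smul, secRes_smul, secRes_comp, secRes_comp, ← e]
    exact rep_eq φ hB hM (Rep.res φ (hb f₁ h₁) g₁) r₂ _
  refine ⟨hP.amalgamate fam hc, fun W g c hgc => ?_⟩
  refine sec_ext M (S.pullback g) (J.pullback_stable g hS) _ _ fun V k hk => ?_
  rw [secRes_comp, secRes_smul, secRes_comp]
  refine (hP.valid_glue hc (k ≫ g) hk).trans ?_
  exact rep_eq φ hB hM (hb (k ≫ g) hk) (Rep.res φ hgc k) _

/-- The product. -/
noncomputable def act {U : C} (f' : O'.obj.obj (op U)) (x : Sec M U) : Sec M U :=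
  (exists_isAct φ hA hB hM f' x).choose

lemma act_spec {U : C} (f' : O'.obj.obj (op U)) (x : Sec M U) :
    IsAct φ (a := a) f' x (act φ hA hB hM f' x) :=
  (exists_isAct φ hA hB hM f' x).choose_spec

lemma act_eq {U : C} (f' : O'.obj.obj (op U)) (x y : Sec M U)
    (h : Loc J U fun W g => ∃ b, Rep φ a g f' b ∧ secRes M g y = b • secRes M g x) :
    act φ hA hB hM f' x = y := by
  obtain ⟨S, hS, hS'⟩ := h
  refine sec_ext M S hS _ _ fun W g hg => ?_
  obtain ⟨b, hb, hy⟩ := hS' g hg
  rw [hy]
  exact act_spec φ hA hB hM f' x g b hb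

lemma act_secRes {U W : C} (k : W ⟶ U) (f' : O'.obj.obj (op U)) (x : Sec M U) :
    secRes M k (act φ hA hB hM f' x) =
      act φ hA hB hM ((O'.obj.map k.op).hom f') (secRes M k x) := by
  refine (act_eq φ hA hB hM _ _ _ ?_).symm
  refine (hA W _).mono fun V g ⟨b, hb⟩ => ⟨b, hb, ?_⟩
  have hb' : Rep φ a (g ≫ k) f' b := by
    rw [Rep, ← res_res' k g]
    exact hb
  rw [secRes_comp, secRes_comp]
  exact act_spec φ hA hB hM f' x (g ≫ k) b hb'

lemma act_phi {U : C} (r : O.obj.obj (op U)) (x : Sec M U) :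
    act φ hA hB hM (phiApp φ U r) x = r • x := by
  refine act_eq φ hA hB hM _ _ _ (Loc.of_forall fun W g => ⟨(O.obj.map g.op).hom r, ?_, ?_⟩)
  · rw [Rep, phiApp_res, sub_self]
    exact Ideal.zero_mem _
  · exact secRes_smul M g r x

/-- The structure of a module over `O'`. -/
@[reducible]
noncomputable def actModule (U : C) : Module (O'.obj.obj (op U)) (Sec M U) where
  smul := act φ hA hB hM
  one_smul x := by
    show act φ hA hB hM 1 x = x
    refine act_eq φ hA hB hM _ _ _ (Loc.of_forall fun W g => ⟨1, ?_, (one_smul _ _).symm⟩)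
    rw [Rep, map_one, map_one, sub_self]
    exact Ideal.zero_mem _
  mul_smul f₁ f₂ x := by
    show act φ hA hB hM (f₁ * f₂) x = act φ hA hB hM f₁ (act φ hA hB hM f₂ x)
    refine act_eq φ hA hB hM _ _ _ (((hA U f₁).and (hA U f₂)).mono fun W g ⟨⟨b₁, h₁⟩, b₂, h₂⟩ => ?_)
    refine ⟨b₁ * b₂, ?_, ?_⟩
    · have e : (O'.obj.map g.op).hom (f₁ * f₂) - phiApp φ W (b₁ * b₂) =
          ((O'.obj.map g.op).hom f₁ - phiApp φ W b₁) * (O'.obj.map g.op).hom f₂ +
            phiApp φ W b₁ * ((O'.obj.map g.op).hom f₂ - phiApp φ W b₂) := by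
        simp only [map_mul]; ring
      show _ ∈ aI' φ a W
      rw [e]
      exact Ideal.add_mem _ (Ideal.mul_mem_right _ _ h₁) (Ideal.mul_mem_left _ _ h₂)
    · rw [act_spec φ hA hB hM f₁ _ g b₁ h₁, act_spec φ hA hB hM f₂ _ g b₂ h₂, mul_smul]
  smul_zero f := by
    show act φ hA hB hM f 0 = 0
    refine act_eq φ hA hB hM _ _ _ ((hA U f).mono fun W g ⟨b, hb⟩ => ⟨b, hb, ?_⟩)
    rw [map_zero, smul_zero]
  smul_add f x y := by
    show act φ hA hB hM f (x + y) = act φ hA hB hM f x + act φ hA hB hM f y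
    refine act_eq φ hA hB hM _ _ _ ((hA U f).mono fun W g ⟨b, hb⟩ => ⟨b, hb, ?_⟩)
    rw [map_add, map_add, smul_add, act_spec φ hA hB hM f x g b hb, act_spec φ hA hB hM f y g b hb]
  add_smul f₁ f₂ x := by
    show act φ hA hB hM (f₁ + f₂) x = act φ hA hB hM f₁ x + act φ hA hB hM f₂ x
    refine act_eq φ hA hB hM _ _ _ (((hA U f₁).and (hA U f₂)).mono fun W g ⟨⟨b₁, h₁⟩, b₂, h₂⟩ => ?_)
    refine ⟨b₁ + b₂, ?_, ?_⟩
    · have e : (O'.obj.map g.op).hom (f₁ + f₂) - phiApp φ W (b₁ + b₂) =
          ((O'.obj.map g.op).hom f₁ - phiApp φ W b₁) + ((O'.obj.map g.op).hom f₂ - phiApp φ W b₂) := by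
        simp only [map_add]; abel
      show _ ∈ aI' φ a W
      rw [e]
      exact Ideal.add_mem _ h₁ h₂
    · rw [map_add, act_spec φ hA hB hM f₁ _ g b₁ h₁, act_spec φ hA hB hM f₂ _ g b₂ h₂, add_smul]
  zero_smul x := by
    show act φ hA hB hM 0 x = 0
    refine act_eq φ hA hB hM _ _ _ (Loc.of_forall fun W g => ⟨0, ?_, ?_⟩)
    · rw [Rep, map_zero, map_zero, sub_self]
      exact Ideal.zero_mem _
    · rw [map_zero, zero_smul]

/-- `M` as a module over `O'`. -/
noncomputable def actMod : ModSite.Mod O' where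
  val := @PresheafOfModules.ofPresheaf _ _ (ModSite.ringSh O').obj M.val.presheaf
    (fun X => actModule φ hA hB hM X.unop)
    (fun {X Y} g r m => act_secRes φ hA hB hM g.unop r m)
  isSheaf := M.isSheaf

/-- `M` is the restriction of `actMod`. -/
noncomputable def actIso :
    M ≅ (SheafOfModules.restrictScalars.{u} (ringMap φ)).obj (actMod φ hA hB hM) :=
  (SheafOfModules.fullyFaithfulForget _).preimageIso
    (PresheafOfModules.isoMk
      (fun X => LinearEquiv.toModuleIso (X₁ := M.val.obj X)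
        (X₂ := ((SheafOfModules.restrictScalars.{u} (ringMap φ)).obj (actMod φ hA hB hM)).val.obj X)
        { toFun := fun x => x
          invFun := fun x => x
          left_inv := fun _ => rfl
          right_inv := fun _ => rfl
          map_add' := fun _ _ => rfl
          map_smul' := fun r x => (act_phi φ hA hB hM r x).symm })
      (fun X Y g => by ext x; rfl))

include hA hB hM in
lemma killed_range {Q : ModSite.Mod O'}
    (ψ : M ⟶ (SheafOfModules.restrictScalars.{u} (ringMap φ)).obj Q) {U : C}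
    {t : O'.obj.obj (op U)} (ht : t ∈ aI' φ a U) (x : Sec M U) :
    t • (show Sec Q U from secMap ψ U x) = 0 := by
  rw [aI', aI, Ideal.map_span, ← Set.range_comp] at ht
  induction ht using Submodule.span_induction with
  | mem r hr =>
    obtain ⟨k, rfl⟩ := hr
    refine ((secMap ψ U).map_smul ((a.get k).1 U) x).symm.trans ?_
    exact (congrArg (secMap ψ U) (hM.smul_eq_zero (Ideal.subset_span ⟨k, rfl⟩) x)).trans (map_zero _)
  | zero => exact zero_smul _ _
  | add r r' _ _ h h' => rw [add_smul, h, h', add_zero]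
  | smul c r _ h => rw [smul_eq_mul, mul_smul, h, smul_zero]

/-- Maps into restrictions are `O'`-linear. -/
noncomputable def actExt {Q : ModSite.Mod O'}
    (ψ : M ⟶ (SheafOfModules.restrictScalars.{u} (ringMap φ)).obj Q) : actMod φ hA hB hM ⟶ Q :=
  ⟨PresheafOfModules.homMk
    { app := fun X => AddCommGrpCat.ofHom
        { toFun := fun x => (secMap ψ X.unop x : Sec Q X.unop)
          map_zero' := map_zero (secMap ψ X.unop)
          map_add' := map_add (secMap ψ X.unop) }
      naturality := fun X Y g => by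
        ext x
        exact secMap_secRes ψ g.unop x }
    (fun X f' x => by
      show (secMap ψ X.unop (act φ hA hB hM f' x) : Sec Q X.unop) =
        (f' : O'.obj.obj X) • (show Sec Q X.unop from secMap ψ X.unop x)
      obtain ⟨S, hS, hS'⟩ := hA X.unop f'
      refine sec_ext Q S hS _ _ fun W g hg => ?_
      obtain ⟨b, hb⟩ := hS' g hg
      rw [secRes_smul]
      refine (secMap_secRes ψ g _).symm.trans ?_
      refine (congrArg (secMap ψ W) (act_spec φ hA hB hM f' x g b hb)).trans ?_
      refine ((secMap ψ W).map_smul b _).trans ?_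
      have h0 := killed_range φ hA hB hM ψ hb (secRes M g x)
      rw [sub_smul, sub_eq_zero] at h0
      refine Eq.trans ?_ (h0.symm.trans (congrArg (fun z : Sec Q W =>
        (O'.obj.map g.op).hom f' • z) (secMap_secRes ψ g x)))
      rfl)⟩

lemma actIso_actExt {Q : ModSite.Mod O'}
    (ψ : M ⟶ (SheafOfModules.restrictScalars.{u} (ringMap φ)).obj Q) :
    (actIso φ hA hB hM).hom ≫
      (SheafOfModules.restrictScalars.{u} (ringMap φ)).map (actExt φ hA hB hM ψ) = ψ :=
  SheafOfModules.hom_ext (PresheafOfModules.hom_ext fun X => by ext x; rfl)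

include hA hB hM in
/-- The unit of extension of scalars is invertible on modules killed by `a`. -/
theorem isIso_unit_of_killed : IsIso ((resData φ).adj.unit.app M) := by
  let adj := (resData φ).adj
  let R := SheafOfModules.restrictScalars.{u} (ringMap φ)
  let e := actIso φ hA hB hM
  let γ := (adj.homEquiv M (actMod φ hA hB hM)).symm e.hom
  let δ := actExt φ hA hB hM (adj.unit.app M)
  have h₁ : adj.unit.app M ≫ R.map γ = e.hom :=
    (adj.homEquiv_unit (f := γ)).symm.trans (Equiv.apply_symm_apply _ _)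
  have h₂ : e.hom ≫ R.map δ = adj.unit.app M := actIso_actExt φ hA hB hM _
  have h₃ : γ ≫ δ = 𝟙 _ := by
    apply (adj.homEquiv _ _).injective
    rw [adj.homEquiv_unit, adj.homEquiv_unit]
    show adj.unit.app M ≫ R.map (γ ≫ δ) = adj.unit.app M ≫ R.map (𝟙 _)
    rw [R.map_comp, ← Category.assoc, h₁, h₂, R.map_id]
    exact (Category.comp_id _).symm
  refine ⟨R.map γ ≫ e.inv, ?_, ?_⟩
  · show adj.unit.app M ≫ R.map γ ≫ e.inv = 𝟙 _
    rw [← Category.assoc, h₁, e.hom_inv_id]
    rfl
  · show (R.map γ ≫ e.inv) ≫ adj.unit.app M = 𝟙 _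
    rw [Category.assoc, ← h₂, e.inv_hom_id_assoc, ← R.map_comp, h₃, R.map_id]

end

section Devissage

variable {A : Type*} [Category A] [Abelian A] {R : Type*} [CommRing R] [Linear R A]

/-- Dévissage: a property stable under extensions holds for objects killed by powers of `l` as
soon as it holds for the objects killed by `l`. -/
theorem prop_of_pow_killed : ∀ (l : List R) (P : A → Prop)
    (_ : ∀ S : ShortComplex A, S.ShortExact → P S.X₁ → P S.X₃ → P S.X₂)
    (_ : ∀ M, (∀ r ∈ l, r • 𝟙 M = 0) → P M) (M : A), (∀ r ∈ l, ∃ N : ℕ, r ^ N • 𝟙 M = 0) → P M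
  | [], P, _, hP, M, _ => hP M fun r hr => absurd hr (List.not_mem_nil)
  | r :: l, P, hext, hP, M, hM => by
    have base : ∀ M', (∀ x ∈ l, ∃ N : ℕ, x ^ N • 𝟙 M' = 0) → r • 𝟙 M' = 0 → P M' := fun M' h =>
      prop_of_pow_killed l (fun M'' => r • 𝟙 M'' = 0 → P M'')
        (fun S hS h₁ h₃ h₂ => by
          haveI := hS.mono_f
          haveI := hS.epi_g
          refine hext S hS (h₁ ?_) (h₃ ?_)
          · rw [← cancel_mono S.f, Linear.smul_comp, Category.id_comp, zero_comp,
              ← Category.comp_id S.f, ← Linear.comp_smul, h₂, comp_zero]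
          · rw [← cancel_epi S.g, Linear.comp_smul, Category.comp_id, comp_zero,
              ← Category.id_comp S.g, ← Linear.smul_comp, h₂, zero_comp])
        (fun M'' h' h'' => hP M'' fun x hx => (List.mem_cons.1 hx).elim (fun e => e ▸ h'') (h' x)) M' h
    obtain ⟨N, hN⟩ := hM r List.mem_cons_self
    suffices key : ∀ (N : ℕ) (M' : A), (∀ x ∈ l, ∃ N : ℕ, x ^ N • 𝟙 M' = 0) →
        r ^ (N + 1) • 𝟙 M' = 0 → P M' from
      key N M (fun x hx => hM x (List.mem_cons_of_mem _ hx)) (by rw [pow_succ', mul_smul, hN, smul_zero])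
    intro N
    induction N with
    | zero => exact fun M' h h' => base M' h (by simpa using h')
    | succ n ih =>
      intro M' h h'
      let q : M' ⟶ M' := r • 𝟙 M'
      let i := kernel.ι q
      let S : ShortComplex A := ShortComplex.mk i (cokernel.π i) (cokernel.condition i)
      have hS : S.ShortExact :=
        { exact := ShortComplex.exact_cokernel i
          mono_f := inferInstanceAs (Mono i)
          epi_g := inferInstanceAs (Epi (cokernel.π i)) }
      let j : cokernel i ⟶ M' := Abelian.factorThruCoimage q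
      haveI : Mono j := inferInstanceAs (Mono (Abelian.factorThruCoimage q))
      have hj : cokernel.π i ≫ j = q := Abelian.coimage.fac q
      have hk : ∀ (x : R), x • 𝟙 M' = 0 → x • 𝟙 (kernel q) = 0 := fun x hx => by
        rw [← cancel_mono i, Linear.smul_comp, Category.id_comp, zero_comp,
          ← Category.comp_id i, ← Linear.comp_smul, hx, comp_zero]
      have hc : ∀ (x : R), x • q = 0 → x • 𝟙 (cokernel i) = 0 := fun x hx => by
        rw [← cancel_mono j, Linear.smul_comp, Category.id_comp, zero_comp, ← cancel_epi (cokernel.π i),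
          Linear.comp_smul, hj, comp_zero, hx]
      refine hext S hS (base _ (fun x hx => ?_) ?_) (ih _ (fun x hx => ?_) ?_)
      · obtain ⟨m, hm⟩ := h x hx
        exact ⟨m, hk _ hm⟩
      · show r • 𝟙 (kernel q) = 0
        rw [← cancel_mono i, zero_comp, Linear.smul_comp, Category.id_comp]
        have := kernel.condition q
        simpa [q, i, Linear.comp_smul] using this
      · obtain ⟨m, hm⟩ := h x hx
        exact ⟨m, hc _ (by rw [smul_comm, hm, smul_zero])⟩
      · exact hc _ (by rw [smul_smul, ← pow_succ]; exact h')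

end Devissage

section Unit

variable {φ} {M : ModSite.Mod O} [PreservesFiniteLimits (resData φ).G]

/-- The unit is invertible on modules killed by powers of `a`. -/
theorem isIso_unit_of_pow_killed [PreservesFiniteLimits (resData φ).F]
    [PreservesFiniteColimits (resData φ).F] (hA : CondA φ a) (hB : CondB φ a)
    (hM : ∀ s ∈ a, ∃ N : ℕ, s ^ N • 𝟙 M = 0) : IsIso ((resData φ).adj.unit.app M) := by
  let adj := (resData φ).adj
  haveI : (resData φ).G.IsLeftAdjoint := adj.isLeftAdjoint
  haveI : PreservesFiniteColimits (resData φ).G := PreservesColimits.preservesFiniteColimits _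
  let T := (resData φ).G ⋙ (resData φ).F
  haveI : PreservesFiniteLimits T := comp_preservesFiniteLimits _ _
  haveI : PreservesFiniteColimits T := comp_preservesFiniteColimits _ _
  haveI : T.Additive := inferInstanceAs ((resData φ).G ⋙ (resData φ).F).Additive
  refine prop_of_pow_killed a (fun M => IsIso (adj.unit.app M)) (fun S hS h₁ h₃ => ?_)
    (fun M h => isIso_unit_of_killed φ hA hB h) M hM
  have hT : (S.map T).ShortExact := hS.map_of_exact T
  haveI : IsIso (S.mapNatTrans adj.unit).τ₁ := h₁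
  haveI : IsIso (S.mapNatTrans adj.unit).τ₃ := h₃
  have hS' : (S.map (𝟭 (ModSite.Mod O))).ShortExact := hS.map_of_exact _
  exact ShortComplex.isIso₂_of_shortExact_of_isIso₁₃ (S.mapNatTrans adj.unit) hS' hT

end Unit

end Groth.Agent.FlatCx12.DerEquiv
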