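import Groth.Agent.DerCompLib.KoszulPush
import Mathlib.Algebra.Homology.DerivedCategory.ShortExact
import Mathlib.Algebra.Homology.HomologicalComplexAbelian

/-!
# Iterated cones and mapping cones

If `kos l` inverts `f` in the derived category, it kills the cone of `f`.
-/

set_option autoImplicit false
set_option backward.isDefEq.respectTransparency false
set_option backward.defeqAttrib.useBackward true
set_option linter.all false

universe w v u t

open CategoryTheory CategoryTheory.Limits CategoryTheory.Pretriangulated HomologicalComplex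
open scoped ZeroObject

namespace Groth.Agent.FlatCx12.DerEquiv

open Groth.Agent.DerCompLib

variable {A : Type u} [Category.{v} A] [Abelian A] {R : Type t} [CommRing R] [Linear R A]

/-- A short complex of complexes split in each degree. -/
def SplitDeg (S : ShortComplex (CochainComplex A ℤ)) : Prop :=
  ∀ n, Nonempty (S.map (eval A (ComplexShape.up ℤ) n)).Splitting

lemma SplitDeg.coneSmul {S : ShortComplex (CochainComplex A ℤ)} (h : SplitDeg S) (r : R) :
    SplitDeg (S.map (coneSmul (A := A) r)) := fun n => by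
  obtain ⟨σ₁⟩ := h (n + 1)
  obtain ⟨σ₀⟩ := h n
  let f₁ := r • 𝟙 S.X₁
  let f₂ := r • 𝟙 S.X₂
  let f₃ := r • 𝟙 S.X₃
  refine ⟨{
    r := (CochainComplex.mappingCone.fst f₂).1.v n (n + 1) rfl ≫ σ₁.r ≫
        (CochainComplex.mappingCone.inl f₁).v (n + 1) n (by omega) +
      (CochainComplex.mappingCone.snd f₂).v n n (add_zero n) ≫ σ₀.r ≫
        (CochainComplex.mappingCone.inr f₁).f n
    s := (CochainComplex.mappingCone.fst f₃).1.v n (n + 1) rfl ≫ σ₁.s ≫
        (CochainComplex.mappingCone.inl f₂).v (n + 1) n (by omega) +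
      (CochainComplex.mappingCone.snd f₃).v n n (add_zero n) ≫ σ₀.s ≫
        (CochainComplex.mappingCone.inr f₂).f n
    f_r := ?_
    s_g := ?_
    id := ?_ }⟩
  · have h1 := σ₁.f_r
    have h0 := σ₀.f_r
    simp [CochainComplex.mappingCone.ext_from_iff _ (n + 1) n rfl, CochainComplex.mappingCone.map,
      reassoc_of% h1, reassoc_of% h0, f₁, f₂] at *
    simp [reassoc_of% h1, reassoc_of% h0]
  · have h1 := σ₁.s_g
    have h0 := σ₀.s_g
    simp [CochainComplex.mappingCone.ext_from_iff _ (n + 1) n rfl, CochainComplex.mappingCone.map,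
      f₂, f₃] at *
    simp [reassoc_of% h1, reassoc_of% h0]
  · have h1 := σ₁.id
    have h0 := σ₀.id
    simp [CochainComplex.mappingCone.ext_from_iff _ (n + 1) n rfl, CochainComplex.mappingCone.map,
      f₁, f₂, f₃] at *
    refine ⟨?_, ?_⟩
    · rw [← Category.assoc (S.g.f (n + 1)), ← Category.assoc σ₁.r, ← Preadditive.add_comp]
      simp [h1]
    · rw [← Category.assoc (S.g.f n), ← Category.assoc σ₀.r, ← Preadditive.add_comp]
      simp [h0]

lemma SplitDeg.kos : ∀ (l : List R) {S : ShortComplex (CochainComplex A ℤ)},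
    SplitDeg S → SplitDeg (S.map (Groth.Agent.DerCompLib.kos l))
  | [], S, h => h
  | r :: l, S, h => SplitDeg.kos l (h.coneSmul r)

lemma SplitDeg.shortExact {S : ShortComplex (CochainComplex A ℤ)} (h : SplitDeg S) : S.ShortExact :=
  shortExact_of_degreewise_shortExact S fun n => (h n).some.shortExact

/-- The cone of the identity. -/
noncomputable abbrev idCone (X : CochainComplex A ℤ) : CochainComplex A ℤ :=
  CochainComplex.mappingCone (𝟙 X)

variable {X Y : CochainComplex A ℤ} (f : X ⟶ Y)

/-- `X ⟶ Y ⊞ cone (𝟙 X) ⟶ cone f`. -/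
noncomputable def coneSES : ShortComplex (CochainComplex A ℤ) :=
  ShortComplex.mk (biprod.lift f (CochainComplex.mappingCone.inr (𝟙 X)))
    (biprod.desc (CochainComplex.mappingCone.inr f)
      (-(CochainComplex.mappingCone.map (𝟙 X) f (𝟙 X) f (by simp))))
    (by
      rw [biprod.lift_desc, Preadditive.comp_neg, CochainComplex.mappingCone.map,
        CochainComplex.mappingCone.inr_desc, add_neg_cancel])

lemma splitDeg_coneSES : SplitDeg (coneSES f) := fun n => by
  let Z := idCone X
  refine ⟨{
    r := (biprod.snd : Y ⊞ Z ⟶ Z).f n ≫ (CochainComplex.mappingCone.snd (𝟙 X)).v n n (add_zero n)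
    s := (CochainComplex.mappingCone.snd f).v n n (add_zero n) ≫ (biprod.inl : Y ⟶ Y ⊞ Z).f n -
      (CochainComplex.mappingCone.fst f).1.v n (n + 1) rfl ≫
        (CochainComplex.mappingCone.inl (𝟙 X)).v (n + 1) n (by omega) ≫ (biprod.inr : Z ⟶ Y ⊞ Z).f n
    f_r := ?_
    s_g := ?_
    id := ?_ }⟩
  · simp [coneSES, ← HomologicalComplex.comp_f_assoc]
  · simp [coneSES, CochainComplex.mappingCone.ext_from_iff _ (n + 1) n rfl,
      CochainComplex.mappingCone.map, ← HomologicalComplex.comp_f, ← HomologicalComplex.comp_f_assoc]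
  · have e : (biprod.fst : Y ⊞ Z ⟶ Y).f n ≫ (biprod.inl : Y ⟶ Y ⊞ Z).f n +
        (biprod.snd : Y ⊞ Z ⟶ Z).f n ≫ (biprod.inr : Z ⟶ Y ⊞ Z).f n = 𝟙 _ := by
      rw [← HomologicalComplex.comp_f, ← HomologicalComplex.comp_f, ← HomologicalComplex.add_f_apply,
        biprod.total, HomologicalComplex.id_f]
    have hext : ∀ (g : (Y ⊞ Z).X n ⟶ (Y ⊞ Z).X n), (biprod.inl : Y ⟶ Y ⊞ Z).f n ≫ g = (biprod.inl : Y ⟶ Y ⊞ Z).f n →
        (biprod.inr : Z ⟶ Y ⊞ Z).f n ≫ g = (biprod.inr : Z ⟶ Y ⊞ Z).f n → g = 𝟙 _ := fun g h₁ h₂ => by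
      rw [← Category.id_comp g, ← e, Preadditive.add_comp, Category.assoc, Category.assoc, h₁, h₂]
    refine hext _ ?_ ?_
    · simp [coneSES, ← HomologicalComplex.comp_f_assoc]
    · simp [coneSES, CochainComplex.mappingCone.ext_from_iff _ (n + 1) n rfl, CochainComplex.mappingCone.map,
        ← HomologicalComplex.comp_f_assoc]
      rw [biprod.lift_eq]
      simp
      try abel

variable [HasDerivedCategory.{w} A]

/-- `kos l` kills the cone of a map that it inverts. -/
theorem isZero_kos_cone (l : List R)
    (h : IsIso (DerivedCategory.Q.map ((kos l).map f))) :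
    IsZero (DerivedCategory.Q.obj ((kos l).obj (CochainComplex.mappingCone f))) := by
  let F := kos (A := A) l ⋙ DerivedCategory.Q
  have hZ : IsZero (F.obj (idCone X)) := by
    refine isZero_kos_congr l (X := (0 : CochainComplex A ℤ)) ?_
      (DerivedCategory.Q.map_isZero ((kos l).map_isZero (isZero_zero _)))
    exact (DerivedCategory.Q.map_isZero (isZero_zero _)).iso
      ((Triangle.isZero₃_iff_isIso₁ (DerivedCategory.Q.mapTriangle.obj
        (CochainComplex.mappingCone.triangle (𝟙 X)))
        (DerivedCategory.mappingCone_triangle_distinguished _)).2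
        (by dsimp; infer_instance))
  let M := Y ⊞ idCone X
  have hfst : IsIso (F.map (biprod.fst : M ⟶ Y)) := by
    refine ⟨F.map biprod.inl, ?_, ?_⟩
    · rw [← F.map_comp, ← F.map_id]
      have e : F.map (biprod.snd ≫ biprod.inr : M ⟶ M) = 0 := by
        rw [F.map_comp, hZ.eq_of_tgt (F.map biprod.snd) 0, zero_comp]
      have e' := congrArg F.map (biprod.total (X := Y) (Y := idCone X))
      rw [F.map_add, e, add_zero] at e'
      exact e'
    · rw [← F.map_comp, biprod.inl_fst, F.map_id]
  haveI : IsIso (F.map (coneSES f).f ≫ F.map (biprod.fst : M ⟶ Y)) := by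
    rw [← F.map_comp]
    simp only [coneSES, biprod.lift_fst]
    exact h
  haveI : IsIso (F.map (coneSES f).f) :=
    IsIso.of_isIso_comp_right _ (F.map (biprod.fst : M ⟶ Y))
  have hS := ((splitDeg_coneSES f).kos l).shortExact
  exact (Triangle.isZero₃_iff_isIso₁ _ (DerivedCategory.triangleOfSES_distinguished hS)).2
    (inferInstanceAs (IsIso (F.map (coneSES f).f)))

section Endo

variable {A : Type u} [Category.{v} A] [Abelian A] {R : Type t} [CommRing R] [Linear R A]
  {T : A ⥤ A} [T.Additive] (η : 𝟭 A ⟶ T)

/-- A transformation from the identity, on complexes. -/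
noncomputable def endoCx (K : CochainComplex A ℤ) :
    K ⟶ (T.mapHomologicalComplex (ComplexShape.up ℤ)).obj K where
  f n := η.app (K.X n)
  comm' i j _ := (η.naturality (K.d i j)).symm

/-- Linear transformations from the identity commute with iterated cones. -/
theorem quasiIso_kos_endoCx (hT : ∀ (M : A) (r : R), T.map (r • 𝟙 M) = r • 𝟙 (T.obj M)) :
    ∀ (l : List R) (X : CochainComplex A ℤ),
      QuasiIso (endoCx η ((Groth.Agent.DerCompLib.kos l).obj X)) →
        QuasiIso ((Groth.Agent.DerCompLib.kos l).map (endoCx η X))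
  | [], X, h => h
  | r :: l, X, h => by
    haveI h' := quasiIso_kos_endoCx hT l (CochainComplex.mappingCone (r • 𝟙 X)) h
    let Tc := T.mapHomologicalComplex (ComplexShape.up ℤ)
    have hr : Tc.map (r • 𝟙 X) = r • 𝟙 (Tc.obj X) := by
      ext n
      simpa [Tc] using hT (X.X n) r
    let e := CochainComplex.mappingCone.mapHomologicalComplexIso (r • 𝟙 X) T ≪≫
      eqToIso (congrArg (fun f => CochainComplex.mappingCone f) hr)
    have cl : ∀ (f g : Tc.obj X ⟶ Tc.obj X), f = g → ∀ n : ℤ,
        (CochainComplex.mappingCone.inl f).v (n + 1) n (by omega) ≍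
          (CochainComplex.mappingCone.inl g).v (n + 1) n (by omega) :=
      fun f g hfg n => by subst hfg; rfl
    have cr : ∀ (f g : Tc.obj X ⟶ Tc.obj X), f = g → ∀ n : ℤ,
        (CochainComplex.mappingCone.inr f).f n ≍ (CochainComplex.mappingCone.inr g).f n :=
      fun f g hfg n => by subst hfg; rfl
    have he : endoCx η (CochainComplex.mappingCone (r • 𝟙 X)) ≫ e.hom =
        (Groth.Agent.DerCompLib.coneSmul r).map (endoCx η X) := by
      ext n
      rw [CochainComplex.mappingCone.ext_from_iff _ (n + 1) n rfl]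
      constructor
      · simp [e, endoCx, CochainComplex.mappingCone.map]
        rw [← Category.assoc, show (CochainComplex.mappingCone.inl (r • 𝟙 X)).v (n + 1) n (by omega) ≫
            η.app ((CochainComplex.mappingCone (r • 𝟙 X)).X n) = η.app (X.X (n + 1)) ≫
              T.map ((CochainComplex.mappingCone.inl (r • 𝟙 X)).v (n + 1) n (by omega)) from η.naturality _,
          Category.assoc]
        congr 1
        simp [CochainComplex.mappingCone.mapHomologicalComplexIso,
          CochainComplex.mappingCone.mapHomologicalComplexXIso_eq (r • 𝟙 X) T n (n + 1) rfl,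
          ← Functor.map_comp_assoc]
        exact eq_of_heq (cl _ _ hr n)
      · simp [e, endoCx, CochainComplex.mappingCone.map]
        rw [← Category.assoc, show (CochainComplex.mappingCone.inr (r • 𝟙 X)).f n ≫
            η.app ((CochainComplex.mappingCone (r • 𝟙 X)).X n) = η.app (X.X n) ≫
              T.map ((CochainComplex.mappingCone.inr (r • 𝟙 X)).f n) from η.naturality _,
          Category.assoc]
        congr 1
        simp [CochainComplex.mappingCone.mapHomologicalComplexIso,
          CochainComplex.mappingCone.mapHomologicalComplexXIso_eq (r • 𝟙 X) T n (n + 1) rfl,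
          ← Functor.map_comp_assoc]
        exact eq_of_heq (cr _ _ hr n)
    show QuasiIso ((Groth.Agent.DerCompLib.kos l).map ((Groth.Agent.DerCompLib.coneSmul r).map (endoCx η X)))
    rw [← he, Functor.map_comp]
    infer_instance

end Endo

end Groth.Agent.FlatCx12.DerEquiv
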