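import Groth.Agent.FlatCx12.DerEquiv.Main
import Groth.Agent.DerCompLib.Completion
import Groth.Agent.S13489

/-!
# Derived complete objects along a flat map bijective modulo the ideal
-/

set_option autoImplicit false
set_option backward.isDefEq.respectTransparency false
set_option backward.isDefEq.respectTransparency.types false
set_option linter.all false

universe u

open CategoryTheory CategoryTheory.Limits CategoryTheory.Pretriangulated Opposite

attribute [local instance] HasDerivedCategory.standard

namespace Groth.Agent.FlatCx12.DerEquiv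

open Groth.Agent.DerCompLib

variable {C : Type u} [SmallCategory C] {J : GrothendieckTopology C} {O O' : Sheaf J CommRingCat.{u}}

lemma KZMor.comp' {V : C} {r : ℕ} {a : Fin r → O.obj.obj (op V)}
    {E E' E'' : DerivedCategory (ModSite.Mod O)} {f : E ⟶ E'} {g : E' ⟶ E''}
    (hf : KZMor a f) (hg : KZMor a g) : KZMor a (f ≫ g) := fun Y n => by
  have h := (hf Y n).comp (hg Y n)
  simpa [Function.comp_def, Functor.map_comp, Category.assoc] using h

lemma kzMor_of_isIso {V : C} {r : ℕ} {a : Fin r → O.obj.obj (op V)}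
    {E E' : DerivedCategory (ModSite.Mod O)} (f : E ⟶ E') [IsIso f] : KZMor a f := fun Y n =>
  (asIso ((restrD V).map f)).symm.homFromEquiv.bijective

variable (φ : O ⟶ O') [PreservesFiniteLimits (resData φ).G]

instance pull_preservesFiniteColimits : PreservesFiniteColimits (resData φ).G :=
  haveI : (resData φ).G.IsLeftAdjoint := (resData φ).adj.isLeftAdjoint
  PreservesColimits.preservesFiniteColimits _

/-- The derived adjunction. -/
noncomputable def adjD :
    (resData φ).G.mapDerivedCategory ⊣ (resData φ).F.mapDerivedCategory :=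
  letI : CatCommSq ((resData φ).G.mapHomologicalComplex (ComplexShape.up ℤ)) DerivedCategory.Q DerivedCategory.Q
      (resData φ).G.mapDerivedCategory := ⟨(resData φ).G.mapDerivedCategoryFactors.symm⟩
  letI : CatCommSq ((resData φ).F.mapHomologicalComplex (ComplexShape.up ℤ)) DerivedCategory.Q DerivedCategory.Q
      (resData φ).F.mapDerivedCategory := ⟨(resData φ).F.mapDerivedCategoryFactors.symm⟩
  (Et18.DerivedExactAdj.adjCx (resData φ).adj).localization DerivedCategory.Q
    (HomologicalComplex.quasiIso (ModSite.Mod O) (ComplexShape.up ℤ)) DerivedCategory.Q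
    (HomologicalComplex.quasiIso (ModSite.Mod O') (ComplexShape.up ℤ))
    (resData φ).G.mapDerivedCategory (resData φ).F.mapDerivedCategory

lemma adjD_unit_app (K : CochainComplex (ModSite.Mod O) ℤ) :
    (adjD φ).unit.app (DerivedCategory.Q.obj K) =
      DerivedCategory.Q.map (etaCx φ K) ≫ (resData φ).F.mapDerivedCategoryFactors.inv.app
          (((resData φ).G.mapHomologicalComplex (ComplexShape.up ℤ)).obj K) ≫
        (resData φ).F.mapDerivedCategory.map ((resData φ).G.mapDerivedCategoryFactors.inv.app K) := by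
  letI : CatCommSq ((resData φ).G.mapHomologicalComplex (ComplexShape.up ℤ)) DerivedCategory.Q DerivedCategory.Q
      (resData φ).G.mapDerivedCategory := ⟨(resData φ).G.mapDerivedCategoryFactors.symm⟩
  letI : CatCommSq ((resData φ).F.mapHomologicalComplex (ComplexShape.up ℤ)) DerivedCategory.Q DerivedCategory.Q
      (resData φ).F.mapDerivedCategory := ⟨(resData φ).F.mapDerivedCategoryFactors.symm⟩
  exact Adjunction.localization_unit_app _ _ _ _ _ _ _ K

omit [PreservesFiniteLimits (resData φ).G] in
theorem isIso_of_isIso_restrict {X Y : DerivedCategory (ModSite.Mod O')} (f : X ⟶ Y)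
    (h : IsIso ((resData φ).F.mapDerivedCategory.map f)) : IsIso f := by
  obtain ⟨Z, p, q, hT⟩ := distinguished_cocone_triangle f
  refine (Triangle.isZero₃_iff_isIso₁ _ hT).1 ?_
  have hZ : IsZero ((resData φ).F.mapDerivedCategory.obj Z) :=
    (Triangle.isZero₃_iff_isIso₁ _ ((resData φ).F.mapDerivedCategory.map_distinguished _ hT)).2 h
  have hH : ∀ n, IsZero ((DerivedCategory.homologyFunctor (ModSite.Mod O') n).obj Z) := fun n => by
    obtain ⟨e⟩ := Et18.DerivedExactAdj.nonempty_homology_obj (F := (resData φ).F) Z n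
    have h0 : IsZero ((resData φ).F.obj ((DerivedCategory.homologyFunctor (ModSite.Mod O') n).obj Z)) :=
      ((DerivedCategory.homologyFunctor (ModSite.Mod O) n).map_isZero hZ).of_iso e.symm
    haveI : (SheafOfModules.restrictScalars.{u} (ringMap φ)).Faithful := ⟨fun {M N g g'} hg =>
      SheafOfModules.hom_ext (PresheafOfModules.hom_ext fun X => ModuleCat.hom_ext (LinearMap.ext fun x =>
        congrArg (fun t : (SheafOfModules.restrictScalars.{u} (ringMap φ)).obj M ⟶ _ =>
          t.val.app X x) hg))⟩
    rw [IsZero.iff_id_eq_zero]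
    apply (SheafOfModules.restrictScalars.{u} (ringMap φ)).map_injective
    exact h0.eq_of_src _ _
  let K := DerivedCategory.Q.objPreimage Z
  refine IsZero.of_iso ((isZero_Q_iff K).2 fun n => ?_) (DerivedCategory.Q.objObjPreimageIso Z).symm
  rw [HomologicalComplex.exactAt_iff_isZero_homology]
  exact (hH n).of_iso (((DerivedCategory.homologyFunctorFactors (ModSite.Mod O') n).app K).symm ≪≫
    (DerivedCategory.homologyFunctor (ModSite.Mod O') n).mapIso (DerivedCategory.Q.objObjPreimageIso Z))

variable (I : DerComp.IdealSh O) (I' : DerComp.IdealSh O') (hI : I.IsFiniteType)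
  (hI' : DerComp.IsIdealExt φ I I') (hflat : ModSite.IsFlat (algMod φ))
  (hinj : ∀ (U : C) (f : O.obj.obj (op U)), (φ.hom.app (op U)).hom f ∈ I'.ideal U → f ∈ I.ideal U)
  (hsurj : ∀ (U : C) (f' : O'.obj.obj (op U)), ∃ S ∈ J U, ∀ ⦃V : C⦄ (g : V ⟶ U), S g →
    ∃ a : O.obj.obj (op V), (O'.obj.map g.op).hom f' - (φ.hom.app (op V)).hom a ∈ I'.ideal V)
  [DerComp.HasDerCompletion O' I']

include hI' in
omit [PreservesFiniteLimits (resData φ).G] [DerComp.HasDerCompletion O' I'] in
lemma isDerComp_restrict_iff (K' : DerivedCategory (ModSite.Mod O')) :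
    DerComp.IsDerComp O' I' K' ↔ DerComp.IsDerComp O I ((resData φ).F.mapDerivedCategory.obj K') :=
  haveI : PreservesFiniteLimits (SheafOfModules.restrictScalars.{u}
      ((sheafCompose J (forget₂ CommRingCat.{u} RingCat.{u})).map φ)) := restrict_preservesFiniteLimits φ
  haveI : PreservesFiniteColimits (SheafOfModules.restrictScalars.{u}
      ((sheafCompose J (forget₂ CommRingCat.{u} RingCat.{u})).map φ)) := restrict_preservesFiniteColimits φ
  S13489.result φ I I' hI' K'

/-- The completed unit. -/
noncomputable def theta (E : DerivedCategory (ModSite.Mod O)) :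
    E ⟶ (resData φ).F.mapDerivedCategory.obj
      ((DerComp.derCompletion O' I').obj ((resData φ).G.mapDerivedCategory.obj E)).obj :=
  (adjD φ).unit.app E ≫ (resData φ).F.mapDerivedCategory.map
    (DerComp.toDerCompletion I' ((resData φ).G.mapDerivedCategory.obj E))

include hI hI' hflat hinj hsurj in
theorem isIso_theta {E : DerivedCategory (ModSite.Mod O)} (hE : DerComp.IsDerComp O I E) :
    IsIso (theta φ I' E) := by
  obtain ⟨Z, p, q, hT⟩ := distinguished_cocone_triangle (theta φ I' E)
  refine (Triangle.isZero₃_iff_isIso₁ _ hT).1 ?_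
  have hZ : DerComp.IsDerComp O I Z := isDerComp_obj₃ I _ hT hE
    ((isDerComp_restrict_iff φ I I' hI' _).1 ((DerComp.derCompletion O' I').obj _).property)
  refine isZero_of_complete_of_cover I hZ fun U => ?_
  obtain ⟨S, hS, hgen⟩ := hI U
  refine ⟨S, hS, fun V g hg => ?_⟩
  obtain ⟨r, a, ha⟩ := hgen g hg
  refine ⟨r, a, fun j => by
    have := ha.1 j (Over.mk (𝟙 V))
    simp [DerComp.GSec.ofSect, DerComp.IdealSh.over] at this
    exact this, (kz_obj₃_iff a _ hT).2 ?_⟩
  refine KZMor.comp' ?_ (kzMor_restrict_completion φ I I' hI' a ha _)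
  let K := DerivedCategory.Q.objPreimage E
  let e : DerivedCategory.Q.obj K ≅ E := DerivedCategory.Q.objObjPreimageIso E
  have hn : (adjD φ).unit.app E = e.inv ≫ (adjD φ).unit.app (DerivedCategory.Q.obj K) ≫
      (resData φ).F.mapDerivedCategory.map ((resData φ).G.mapDerivedCategory.map e.hom) := by
    rw [← cancel_epi e.hom, e.hom_inv_id_assoc]
    exact (adjD φ).unit.naturality e.hom
  rw [hn, adjD_unit_app]
  exact KZMor.comp' (kzMor_of_isIso _) (KZMor.comp' (KZMor.comp'
    (kzMor_etaCx φ I I' hI' hflat hinj hsurj a ha K) (kzMor_of_isIso _)) (kzMor_of_isIso _))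

include hI hI' hflat hinj hsurj in
theorem exists_preimage {E : DerivedCategory (ModSite.Mod O)} (hE : DerComp.IsDerComp O I E) :
    ∃ K' : DerivedCategory (ModSite.Mod O'), DerComp.IsDerComp O' I' K' ∧
      Nonempty ((resData φ).F.mapDerivedCategory.obj K' ≅ E) :=
  haveI := isIso_theta φ I I' hI hI' hflat hinj hsurj hE
  ⟨_, ((DerComp.derCompletion O' I').obj _).property, ⟨(asIso (theta φ I' E)).symm⟩⟩

include hI hI' hflat hinj hsurj in
theorem bijective_map (K' L' : DerivedCategory (ModSite.Mod O'))
    (hK : DerComp.IsDerComp O' I' K') (hL : DerComp.IsDerComp O' I' L') :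
    Function.Bijective fun ψ : K' ⟶ L' => (resData φ).F.mapDerivedCategory.map ψ := by
  let R := (resData φ).F.mapDerivedCategory
  let L := (resData φ).G.mapDerivedCategory
  let adj := adjD φ
  let cadj := DerComp.derCompletionAdj O' I'
  let Y : DerComp.DComp O' I' := ⟨K', hK⟩
  let Y' : DerComp.DComp O' I' := ⟨L', hL⟩
  let W := (DerComp.derCompletion O' I').obj (L.obj (R.obj K'))
  let ε := ((cadj.homEquiv (L.obj (R.obj K')) Y).symm (adj.counit.app K')).hom
  have hε : DerComp.toDerCompletion I' (L.obj (R.obj K')) ≫ ε = adj.counit.app K' :=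
    (cadj.homEquiv_unit (f := (cadj.homEquiv (L.obj (R.obj K')) Y).symm (adj.counit.app K'))).symm.trans
      (Equiv.apply_symm_apply _ _)
  haveI := isIso_theta φ I I' hI hI' hflat hinj hsurj ((isDerComp_restrict_iff φ I I' hI' K').1 hK)
  have h1 : theta φ I' (R.obj K') ≫ R.map ε = 𝟙 _ := by
    rw [theta, Category.assoc, ← Functor.map_comp, hε]
    exact adj.right_triangle_components K'
  haveI : IsIso ε := isIso_of_isIso_restrict φ ε
    (by
      haveI : IsIso (theta φ I' (R.obj K') ≫ R.map ε) := by rw [h1]; infer_instance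
      exact IsIso.of_isIso_comp_left (theta φ I' (R.obj K')) _)
  have hc : Function.Bijective fun g : W.obj ⟶ L' =>
      DerComp.toDerCompletion I' (L.obj (R.obj K')) ≫ g := by
    have : (fun g : W.obj ⟶ L' => DerComp.toDerCompletion I' (L.obj (R.obj K')) ≫ g) =
        (cadj.homEquiv _ Y') ∘ (ObjectProperty.homMk (P := DerComp.IsDerComp O' I') (X := W) (Y := Y')) := by
      funext g
      exact (cadj.homEquiv_unit (X := L.obj (R.obj K')) (Y := Y') (f := _)).symm
    rw [this]
    exact (cadj.homEquiv _ Y').bijective.comp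
      ⟨fun g g' e => congrArg (fun z => z.hom) e, fun g => ⟨g.hom, rfl⟩⟩
  have heq : (adj.homEquiv (R.obj K') L').symm ∘ (fun ψ : K' ⟶ L' => R.map ψ) =
      (fun g : W.obj ⟶ L' => DerComp.toDerCompletion I' (L.obj (R.obj K')) ≫ g) ∘ fun ψ => ε ≫ ψ := by
    funext ψ
    show (adj.homEquiv (R.obj K') L').symm (R.map ψ) = _ ≫ ε ≫ ψ
    rw [adj.homEquiv_counit, reassoc_of% hε]
    exact adj.counit.naturality ψ
  have hb : Function.Bijective ((adj.homEquiv (R.obj K') L').symm ∘ fun ψ : K' ⟶ L' => R.map ψ) := by
    rw [heq]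
    exact hc.comp (asIso ε).symm.homFromEquiv.bijective
  exact (Function.Bijective.of_comp_iff' (Equiv.bijective _) _).1 hb

end Groth.Agent.FlatCx12.DerEquiv
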