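import Groth.Agent.HTop16.FlatBase
import Groth.Agent.DerCompLib.SecData

/-!
# Flat maps of sheaves of rings on one site

If `O'` is flat over `O`, extension of scalars along `O ⟶ O'` is exact.
-/

set_option autoImplicit false
set_option backward.isDefEq.respectTransparency false
set_option backward.isDefEq.respectTransparency.types false
set_option linter.all false

universe u

open CategoryTheory CategoryTheory.Limits Opposite

namespace Groth.Agent.FlatCx12.DerEquiv

open DerCompLib (Sec secRes secMap Node nodeRes nodeEval coeffRes Loc LocFlat SecData resData ringMap ringMapId secRes_comp secRes_smul)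
open HTop16.FlatBase HTop16.PullShortExact SiteHom16 HTop16.InvRingSet

variable {C : Type u} [SmallCategory C] {J : GrothendieckTopology C} {O O' : Sheaf J CommRingCat.{u}}

/-- Inverse image of sheaves along the identity functor is the identity. -/
noncomputable def pullbackIdIso : (𝟭 C).sheafPullback (Type u) J J ≅ 𝟭 _ :=
  (((𝟭 C).sheafAdjunctionContinuous (Type u) J J).ofNatIsoRight
    (Functor.sheafPushforwardContinuousId' (Iso.refl _) _ _)).leftAdjointUniq Adjunction.id

instance exact_pullbackId : PreservesFiniteLimits ((𝟭 C).sheafPullback (Type u) J J) :=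
  preservesFiniteLimits_of_natIso pullbackIdIso.symm

variable (φ : O ⟶ O')

/-- `φ` as a morphism of ringed sites. -/
noncomputable def idMor : ModSite.RMor O' O where
  fn := 𝟭 C
  exact := exact_pullbackId
  sharp := φ

/-- The structure sheaf of `O'` as an `O`-module. -/
noncomputable abbrev algMod : ModSite.Mod O :=
  (SheafOfModules.restrictScalars.{u} (ringMap φ)).obj (ModSite.unit O')

theorem loc_triv_id (hB : HasLocalTriv (algMod φ)) {W E : C} (k : W ⟶ (idMor φ).fn.obj E)
    {ι κ : Type*} [Fintype ι] [Fintype κ] (w : ι → O'.obj.obj (op W)) (c : ι → κ → O.obj.obj (op E))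
    (h : ∀ x, ∑ d, w d * (O'.obj.map k.op).hom (σr (idMor φ) E (c d x)) = 0) :
    Loc J W fun W' g => ∃ (E' : C) (e : E' ⟶ E) (k' : W' ⟶ (idMor φ).fn.obj E') (l : ℕ)
        (t : Fin l → O'.obj.obj (op W')) (B : ι → Fin l → O.obj.obj (op E')),
      k' ≫ (idMor φ).fn.map e = g ≫ k ∧
        (∀ d, (O'.obj.map g.op).hom (w d) =
          ∑ p, (O'.obj.map k'.op).hom (σr (idMor φ) E' (B d p)) * t p) ∧
        ∀ x p, ∑ d, B d p * (O.obj.map e.op).hom (c d x) = 0 := by
  classical
  let k₀ : W ⟶ E := k
  let bs : ∀ {X : C}, O'.obj.obj (op X) → Sec (algMod φ) X := fun b => b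
  let bv : ∀ {X : C}, Sec (algMod φ) X → O'.obj.obj (op X) := fun b => b
  have hnat : ∀ d x, (O'.obj.map k₀.op).hom ((φ.hom.app (op E)).hom (c d x)) =
      (φ.hom.app (op W)).hom ((O.obj.map k₀.op).hom (c d x)) := fun d x =>
    (ConcreteCategory.congr_hom (φ.hom.naturality k₀.op) (c d x)).symm
  obtain ⟨S, hS, hS'⟩ := exists_factors_finset hB (fun d => bs (w d))
    (fun x d => (O.obj.map k₀.op).hom (c d x)) (Finset.univ : Finset κ) (fun x _ => by
      show bv (∑ d, (O.obj.map k₀.op).hom (c d x) • bs (w d)) = 0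
      rw [show bv (∑ d, (O.obj.map k₀.op).hom (c d x) • bs (w d)) =
        ∑ d, bv ((O.obj.map k₀.op).hom (c d x) • bs (w d)) from rfl]
      refine Eq.trans (Finset.sum_congr rfl fun d _ => ?_) (h x)
      show (φ.hom.app (op W)).hom ((O.obj.map k₀.op).hom (c d x)) * w d = _
      rw [← hnat, mul_comm]
      rfl)
  refine ⟨S, hS, fun W' g hg => ?_⟩
  obtain ⟨l, t, b, hw, hb⟩ := hS' g hg
  refine ⟨W', g ≫ k₀, 𝟙 W', l, fun p => bv (t p), b, Category.id_comp _, fun d => ?_, fun x p => ?_⟩
  · refine ((congrArg bv (hw d)).trans (show bv (∑ p, b d p • t p) = ∑ p, bv (b d p • t p) from rfl)).trans (Finset.sum_congr rfl fun p _ => ?_)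
    show (φ.hom.app (op W')).hom (b d p) * bv (t p) = _
    refine congrArg (· * bv (t p)) ?_
    exact (ConcreteCategory.congr_hom (O'.obj.map_id (op W')) _).symm
  · refine Eq.trans (Finset.sum_congr rfl fun d _ => ?_) (hb x (Finset.mem_univ _) p)
    rw [op_comp, Functor.map_comp]
    rfl

variable (S : ShortComplex (ModSite.Mod O))

/-- The core step, from flatness over `O`. -/
theorem coreId (hB : HasLocalTriv (algMod φ)) (hS : S.ShortExact) {W : C}
    (a : Node (genC (idMor φ) S.X₁) W →₀ O'.obj.obj (op W))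
    (b : Node (relC (idMor φ) S.X₂) W →₀ O'.obj.obj (op W))
    (hb : relMap (idMor φ) S.X₂ W b = Finsupp.mapDomain (nodeMap (idMor φ) S.f) a) :
    Loc J W fun W' g => secRes ((idMor φ).pull.obj S.X₁) g
      (secMap (proj (idMor φ) S.X₁) W (nodeEval (gg (idMor φ) S.X₁) W a)) = 0 := by
  classical
  let f := idMor φ
  haveI := hS.mono_f
  let A₀ : Finset (Node (genC f S.X₂) W) := a.support.image (nodeMap f S.f)
  let A : Finset (Node (genC f S.X₂) W) := A₀ ∪ b.support.biUnion fun d => d.1.2.1.support.image (tr f S.X₂ d)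
  refine (common_rep f S.X₂ b A fun d hd q hq =>
    Finset.mem_union_right _ (Finset.mem_biUnion.2 ⟨d, hd, Finset.mem_image_of_mem _ hq⟩)).bind ?_
  rintro W₁ g₁ ⟨E, k, α, β, hα, hβ, hrel⟩
  let c : ↥b.support → ↥A → O.obj.obj (op E) := fun d x => ∑ q ∈ d.1.1.2.1.support,
    if tr f S.X₂ d.1 q = x.1 then (O.obj.map (β d).op).hom (d.1.1.2.1 q) else 0
  have hrows : ∀ y : {x : ↥A // x.1 ∉ A₀},
      ∑ d : ↥b.support, (O'.obj.map g₁.op).hom (b d.1) * (O'.obj.map k.op).hom (σr f E (c d y.1)) = 0 := fun y => by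
    have h0 : (O'.obj.map g₁.op).hom (relMap f S.X₂ W b y.1.1) = 0 := by
      rw [hb, Finsupp.notMem_support_iff.1 fun h' => y.2 (Finsupp.mapDomain_support h'), map_zero]
    refine Eq.trans ?_ h0
    rw [relMap_apply, map_sum, ← Finset.sum_coe_sort b.support]
    refine Finset.sum_congr rfl fun d _ => ?_
    simp only [c, map_mul, map_sum, Finset.mul_sum]
    refine Finset.sum_congr rfl fun q _ => ?_
    split_ifs
    · rw [σr_res f (β d), res_res, res_res, hβ]
    · simp
  refine (loc_triv_id φ hB k (fun d : ↥b.support => (O'.obj.map g₁.op).hom (b d.1))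
    (fun d (y : {x : ↥A // x.1 ∉ A₀}) => c d y.1) hrows).mono ?_
  rintro W₂ g₂ ⟨E', e, k', l, t, B, hk', hBt, hker⟩
  replace hk' : k' ≫ f.fn.map e = g₂ ≫ k := hk'
  have hpre : ∀ x : ↥A, ∃ m : Sec S.X₁ x.1.1.1, x.1 ∈ A₀ → secMap S.f x.1.1.1 m = x.1.1.2 := fun x => by
    by_cases hx : x.1 ∈ A₀
    · obtain ⟨x₀, -, hx₀⟩ := Finset.mem_image.1 hx
      rw [← hx₀]
      exact ⟨x₀.1.2, fun _ => rfl⟩
    · exact ⟨0, fun h => absurd h hx⟩
  choose m hm using hpre
  have hfm : ∀ x : ↥A, x.1 ∈ A₀ →
      secMap S.f E' (secRes S.X₁ (e ≫ α x) (m x)) = secRes S.X₂ (e ≫ α x) x.1.1.2 := fun x hx => by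
    rw [DerCompLib.secMap_secRes, hm x hx]
  refine final_step f S _ a b hb A (fun x₀ hx₀ => Finset.mem_union_left _ (Finset.mem_image_of_mem _ hx₀)) k'
    (fun x => e ≫ α x) (fun x => ?_) (fun d => e ≫ β d) (fun d => ?_) (fun x => secRes S.X₁ (e ≫ α x) (m x))
    (fun x x₀ hx₀ h => hfm x (h ▸ Finset.mem_image_of_mem _ hx₀))
    (fun d x => (O.obj.map e.op).hom (c d x)) (fun d x => ?_) t B (fun d => ?_) fun p => ?_
  · simp only [Functor.map_comp, reassoc_of% hk', hα, Category.assoc]
  · simp only [Functor.map_comp, reassoc_of% hk', hβ, Category.assoc]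
  · simp only [c, map_sum]
    refine Finset.sum_congr rfl fun q _ => ?_
    split_ifs
    · rw [res_res]
    · simp
  · rw [← hBt d, res_res]
  · apply injective_secMap S.f E'
    rw [map_zero, map_sum]
    have e0 : ∀ x : ↥A, secMap S.f E' ((∑ d, B d p * (O.obj.map e.op).hom (c d x)) • secRes S.X₁ (e ≫ α x) (m x)) =
        (∑ d, B d p * (O.obj.map e.op).hom (c d x)) • secRes S.X₂ (e ≫ α x) x.1.1.2 := fun x => by
      rw [map_smul]
      by_cases hx : x.1 ∈ A₀
      · rw [hfm x hx]
      · rw [hker ⟨x, hx⟩ p, zero_smul, zero_smul]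
    rw [Finset.sum_congr rfl fun x _ => e0 x]
    simp only [Finset.sum_smul]
    rw [Finset.sum_comm]
    refine Finset.sum_eq_zero fun d _ => ?_
    have h' := congrArg (fun s => B d p • secRes S.X₂ e s) (hrel d)
    simp only [map_sum, map_zero, smul_zero, Finset.smul_sum, DerCompLib.secRes_smul, DerCompLib.secRes_comp,
      smul_smul] at h'
    simp only [c, map_sum]
    simpa only [map_sum] using h'

/-- Extension of scalars along a flat map is exact. -/
theorem preservesFiniteLimits_pull_id (hB : HasLocalTriv (algMod φ)) :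
    PreservesFiniteLimits (idMor φ).pull := by
  let f := idMor φ
  haveI : f.pull.IsLeftAdjoint := f.adj.isLeftAdjoint
  haveI : f.pull.Additive := f.adj.left_adjoint_additive
  haveI : PreservesColimitsOfSize.{0, 0} f.pull := f.adj.leftAdjoint_preservesColimits
  haveI : f.pull.PreservesMonomorphisms := ⟨fun {M N} i _ => by
    let S := ShortComplex.mk i (cokernel.π i) (cokernel.condition i)
    have hS : S.ShortExact :=
      { exact := ShortComplex.exact_cokernel i
        mono_f := inferInstanceAs (Mono i)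
        epi_g := inferInstanceAs (Epi (cokernel.π i)) }
    refine Preadditive.mono_of_cancel_zero _ fun {P} q hq => ?_
    refine SheafOfModules.hom_ext (PresheafOfModules.hom_ext fun X => ModuleCat.hom_ext (LinearMap.ext fun (p : Sec P X.unop) => ?_))
    refine secMap_pull_eq_zero f S (fun a b hb => coreId φ S hB hS a b hb)
      (X := X.unop) (secMap q X.unop p) ?_
    show secMap (f.pull.map i) X.unop (secMap q X.unop p) = 0
    rw [← DerCompLib.secMap_comp, hq, DerCompLib.secMap_zero]⟩
  haveI : PreservesFiniteColimits f.pull := inferInstance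
  haveI := Functor.preservesHomology_of_preservesMonos_and_cokernels f.pull
  exact Functor.preservesFiniteLimits_of_preservesHomology f.pull

theorem preservesFiniteLimits_resData (hB : HasLocalTriv (algMod φ)) :
    PreservesFiniteLimits (resData φ).G :=
  preservesFiniteLimits_pull_id φ hB

end Groth.Agent.FlatCx12.DerEquiv
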