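import Groth.Agent.FlatCx12.DerEquiv.Act
import Groth.Agent.FlatCx12.DerEquiv.Cone
import Groth.Agent.Et18.DerivedExactAdj
import Mathlib.Algebra.Homology.ShortComplex.Linear

/-!
# Iterated cones of the unit of extension of scalars
-/

set_option autoImplicit false
set_option backward.isDefEq.respectTransparency false
set_option backward.isDefEq.respectTransparency.types false
set_option backward.defeqAttrib.useBackward true
set_option linter.all false

universe u

open CategoryTheory CategoryTheory.Limits Opposite

attribute [local instance] HasDerivedCategory.standard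

namespace Groth.Agent.FlatCx12.DerEquiv

open Groth.Agent.DerCompLib

variable {C : Type u} [SmallCategory C] {J : GrothendieckTopology C} {O O' : Sheaf J CommRingCat.{u}}
  (φ : O ⟶ O')

/-- Images of global sections. -/
def gMap (s : DerComp.GSec O) : DerComp.GSec O' :=
  ⟨fun U => phiApp φ U (s.1 U), fun {U W} g => by
    rw [phiApp_res φ g, s.2 g]⟩

lemma restrict_map_smul (s : DerComp.GSec O) (N : ModSite.Mod O') :
    (resData φ).F.map (gMap φ s • 𝟙 N) = s • 𝟙 ((resData φ).F.obj N) :=
  SheafOfModules.hom_ext (PresheafOfModules.hom_ext fun X => by ext x; rfl)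

lemma pull_map_smul (s : DerComp.GSec O) (M : ModSite.Mod O) :
    (resData φ).G.map (s • 𝟙 M) = gMap φ s • 𝟙 ((resData φ).G.obj M) := by
  let adj := (resData φ).adj
  apply (adj.homEquiv _ _).injective
  rw [adj.homEquiv_unit, adj.homEquiv_unit, restrict_map_smul, show adj.unit.app M ≫ (resData φ).F.map ((resData φ).G.map (s • 𝟙 M)) =
      (s • 𝟙 M) ≫ adj.unit.app M from (adj.unit.naturality _).symm,
    Linear.smul_comp, Linear.comp_smul, Category.id_comp]
  exact congrArg _ (Category.comp_id _).symm

/-- `T = R ∘ G`. -/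
noncomputable abbrev tF : ModSite.Mod O ⥤ ModSite.Mod O := (resData φ).G ⋙ (resData φ).F

lemma tF_map_smul (s : DerComp.GSec O) (M : ModSite.Mod O) :
    (tF φ).map (s • 𝟙 M) = s • 𝟙 ((tF φ).obj M) := by
  show (resData φ).F.map ((resData φ).G.map (s • 𝟙 M)) = _
  rw [pull_map_smul, restrict_map_smul]
  rfl

/-- The unit, on complexes. -/
noncomputable def etaCx (K : CochainComplex (ModSite.Mod O) ℤ) :
    K ⟶ ((tF φ).mapHomologicalComplex (ComplexShape.up ℤ)).obj K where
  f n := (resData φ).adj.unit.app (K.X n)
  comm' i j _ := ((resData φ).adj.unit.naturality (K.d i j)).symm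

lemma etaCx_eq (K : CochainComplex (ModSite.Mod O) ℤ) :
    etaCx φ K = endoCx (T := tF φ) (resData φ).adj.unit K := rfl

variable {φ} {a : List (DerComp.GSec O)} [PreservesFiniteLimits (resData φ).G]
  [PreservesFiniteLimits (resData φ).F] [PreservesFiniteColimits (resData φ).F]
  (hA : CondA φ a) (hB : CondB φ a)

include hA hB in
/-- The unit is a quasi-isomorphism on complexes killed by powers of `a`. -/
theorem quasiIso_etaCx_of_pow (K : CochainComplex (ModSite.Mod O) ℤ)
    (hK : ∀ s ∈ a, ∃ N : ℕ, s ^ N • 𝟙 (DerivedCategory.Q.obj K) = 0) : QuasiIso (etaCx φ K) := by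
  let adj := (resData φ).adj
  haveI : (resData φ).G.IsLeftAdjoint := adj.isLeftAdjoint
  haveI : PreservesFiniteColimits (resData φ).G := PreservesColimits.preservesFiniteColimits _
  haveI : PreservesFiniteLimits (tF φ) := comp_preservesFiniteLimits _ _
  haveI : PreservesFiniteColimits (tF φ) := comp_preservesFiniteColimits _ _
  refine ⟨fun n => ?_⟩
  rw [quasiIsoAt_iff_isIso_homologyMap]
  have hh : IsIso (adj.unit.app (K.sc n).homology) := by
    refine isIso_unit_of_pow_killed hA hB fun s hs => ?_
    obtain ⟨N, hN⟩ := hK s hs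
    refine ⟨N, ?_⟩
    have h0 : DerivedCategory.Q.map (s ^ N • 𝟙 K) = 0 := by
      rw [Functor.map_smul, CategoryTheory.Functor.map_id]
      exact hN
    have h1 : HomologicalComplex.homologyMap (s ^ N • 𝟙 K) n = 0 := by
      have e := (DerivedCategory.homologyFunctorFactors (ModSite.Mod O) n).hom.naturality (s ^ N • 𝟙 K)
      simp only [Functor.comp_map, h0, Functor.map_zero, zero_comp] at e
      rw [← cancel_epi ((DerivedCategory.homologyFunctorFactors (ModSite.Mod O) n).hom.app K), comp_zero]
      exact e.symm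
    refine Eq.trans ?_ h1
    have hsc : (HomologicalComplex.shortComplexFunctor (ModSite.Mod O) (ComplexShape.up ℤ) n).map
        (s ^ N • 𝟙 K) = s ^ N • 𝟙 (K.sc n) := by
      apply ShortComplex.hom_ext <;> rfl
    show _ = ShortComplex.homologyMap
      ((HomologicalComplex.shortComplexFunctor (ModSite.Mod O) (ComplexShape.up ℤ) n).map (s ^ N • 𝟙 K))
    rw [hsc]
    exact ((ShortComplex.homologyMap_smul _ _).trans (congrArg _ (ShortComplex.homologyMap_id _))).symm
  change IsIso (ShortComplex.homologyMap (ShortComplex.mapNatTrans (K.sc n) adj.unit))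
  rw [ShortComplex.homologyMap_mapNatTrans]
  infer_instance

include hA hB in
/-- `kos a` of the cone of the unit is acyclic. -/
theorem isZero_kos_cone_etaCx (X : CochainComplex (ModSite.Mod O) ℤ) :
    IsZero (DerivedCategory.Q.obj ((kos a).obj (CochainComplex.mappingCone (etaCx φ X)))) := by
  refine isZero_kos_cone _ a ?_
  rw [DerivedCategory.isIso_Q_map_iff_quasiIso]
  exact quasiIso_kos_endoCx (T := tF φ) (resData φ).adj.unit (fun M r => tF_map_smul φ r M) a X (quasiIso_etaCx_of_pow hA hB _ fun s hs => by
    obtain ⟨N, hN⟩ := exists_pow_smul_kos (A := ModSite.Mod O) a s hs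
    exact ⟨N, hN X⟩)

end Groth.Agent.FlatCx12.DerEquiv
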