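import Groth.Agent.FlatCx12.DerEquiv.Over
import Groth.Agent.FlatCx12.DerEquiv.Kos
import Groth.Agent.DerCompLib.KoszulRpush
import Groth.Agent.DerCompLib.RestrAdj
import Groth.Agent.SiteTen.FlatMore
import Mathlib.CategoryTheory.Localization.Adjunction

/-!
# Derived complete objects and flat maps that are bijective modulo the ideal
-/

set_option autoImplicit false
set_option backward.isDefEq.respectTransparency false
set_option backward.isDefEq.respectTransparency.types false
set_option linter.all false

universe u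

open CategoryTheory CategoryTheory.Limits CategoryTheory.Pretriangulated Opposite

attribute [local instance] HasDerivedCategory.standard

namespace Groth.Agent.FlatCx12.DerEquiv

open Groth.Agent.DerCompLib

variable {C : Type u} [SmallCategory C] {J : GrothendieckTopology C} {O O' : Sheaf J CommRingCat.{u}}

instance restrict_preservesFiniteColimits (ψ : O ⟶ O') : PreservesFiniteColimits (resData ψ).F := by
  refine preservesFiniteColimits_of_preservesFiniteColimitsOfSize.{u} _ fun T _ _ => ?_
  haveI := preservesColimitsOfShape_toSheaf (O := O) T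
  haveI := preservesColimitsOfShape_toSheaf (O := O') T
  haveI : PreservesColimitsOfShape T
      ((resData ψ).F ⋙ SheafOfModules.toSheaf.{u} (ModSite.ringSh O)) :=
    preservesColimitsOfShape_of_natIso (F := SheafOfModules.toSheaf.{u} (ModSite.ringSh O'))
      (Iso.refl _)
  haveI : ReflectsColimitsOfShape T (SheafOfModules.toSheaf.{u} (ModSite.ringSh O)) :=
    reflectsColimitsOfShape_of_reflectsIsomorphisms
  exact preservesColimitsOfShape_of_reflects_of_preserves _
    (SheafOfModules.toSheaf.{u} (ModSite.ringSh O))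

instance restrict_preservesFiniteLimits (ψ : O ⟶ O') : PreservesFiniteLimits (resData ψ).F :=
  haveI : (resData ψ).F.IsRightAdjoint := (resData ψ).adj.isRightAdjoint
  PreservesLimits.preservesFiniteLimits _

instance (ψ : O ⟶ O') : (resData ψ).fn.IsContinuous J J := inferInstanceAs ((𝟭 C).IsContinuous J J)

variable (φ : O ⟶ O') (I : DerComp.IdealSh O) (I' : DerComp.IdealSh O')
  (hI' : DerComp.IsIdealExt φ I I')
  (hflat : ModSite.IsFlat (algMod φ))
  (hinj : ∀ (U : C) (f : O.obj.obj (op U)), (φ.hom.app (op U)).hom f ∈ I'.ideal U → f ∈ I.ideal U)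
  (hsurj : ∀ (U : C) (f' : O'.obj.obj (op U)), ∃ S ∈ J U, ∀ ⦃V : C⦄ (g : V ⟶ U), S g →
    ∃ a : O.obj.obj (op V), (O'.obj.map g.op).hom f' - (φ.hom.app (op V)).hom a ∈ I'.ideal V)

variable {V : C} {r : ℕ} (a : Fin r → O.obj.obj (op V))
  (ha : (I.over V).IsGenBy fun j => DerComp.GSec.ofSect O V (a j))

/-- The images of the generators. -/
abbrev aImg : Fin r → O'.obj.obj (op V) := fun j => phiApp φ V (a j)

include hI' ha in
lemma locallyInSpan_img {W : C} {f : O'.obj.obj (op W)} (hf : f ∈ I'.ideal W) :
    LocallyInSpan (aImg φ a) f :=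
  (mem_localSpanSh _ f).1 (hI'.2 (localSpanSh (aImg φ a))
    (fun E g hg => (mem_localSpanSh _ _).2
      (locallyInSpan_push (resData φ) (locFlat_id J) a (locallyInSpan_of_genBy a I ha hg))) W hf)

lemma aI_gList (X : Over V) : aI (gList a) X = resSpan a X.hom := by
  apply le_antisymm <;> rw [aI, resSpan, Ideal.span_le]
  · rintro _ ⟨k, rfl⟩
    refine Ideal.subset_span ⟨Fin.cast (by simp) k, ?_⟩
    simp
    rfl
  · rintro _ ⟨j, rfl⟩
    refine Ideal.subset_span ⟨Fin.cast (by simp) j, ?_⟩
    simp
    rfl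

lemma aI'_gList (X : Over V) :
    aI' (overMap φ V) (gList a) X = resSpan (aImg φ a) X.hom := by
  rw [aI', aI_gList, resSpan, resSpan, Ideal.map_span, ← Set.range_comp]
  congr 2
  funext j
  exact (phiApp_res φ X.hom (a j)).symm

include hI' ha hsurj in
theorem condA_over : CondA (overMap φ V) (gList a) := fun X f' => by
  obtain ⟨S, hS, hS'⟩ := hsurj X.left f'
  choose b hb using hS'
  have key : Loc J X.left fun W g => ∃ c : O.obj.obj (op W),
      (O'.obj.map g.op).hom f' - phiApp φ W c ∈ resSpan (aImg φ a) (g ≫ X.hom) :=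
    Loc.bind (P := fun W g => ∃ c : O.obj.obj (op W), (O'.obj.map g.op).hom f' - phiApp φ W c ∈ I'.ideal W)
      ⟨S, hS, fun W g hg => ⟨b g hg, hb g hg⟩⟩ fun W g ⟨c, hc⟩ => by
      obtain ⟨R, hR, hR'⟩ := locallyInSpan_img φ I I' hI' a ha hc (g ≫ X.hom) (𝟙 W)
      refine ⟨R, hR, fun W' k hk => ⟨(O.obj.map k.op).hom c, ?_⟩⟩
      have h' := hR' k hk
      rw [Category.comp_id, map_sub, phiApp_res, res_res'] at h'
      rw [Category.assoc]
      exact h'
  obtain ⟨S₀, hS₀, hS₀'⟩ := key
  refine ⟨(Sieve.overEquiv X).symm S₀, ?_, fun Z k hk => ?_⟩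
  · rw [GrothendieckTopology.mem_over_iff]
    exact ((Sieve.overEquiv X).apply_symm_apply S₀).symm ▸ hS₀
  · obtain ⟨c, hc⟩ := hS₀' k.left ((Sieve.overEquiv_symm_iff S₀ k).1 hk)
    refine ⟨c, ?_⟩
    rw [aI'_gList]
    rw [Over.w k] at hc
    exact hc

include hI' ha hinj in
theorem condB_over : CondB (overMap φ V) (gList a) := fun X f hf => by
  rw [aI'_gList] at hf
  have hmem : (φ.hom.app (op X.left)).hom f ∈ I'.ideal X.left := by
    refine (Ideal.span_le.2 ?_) hf
    rintro _ ⟨j, rfl⟩
    have hj := ha.1 j X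
    have := hI'.1 X.left _ hj
    show (O'.obj.map X.hom.op).hom (phiApp φ V (a j)) ∈ _
    rw [phiApp_res]
    exact this
  obtain ⟨R, hR, hR'⟩ := locallyInSpan_of_genBy a I ha (hinj X.left f hmem) X.hom (𝟙 X.left)
  refine ⟨(Sieve.overEquiv X).symm R, ?_, fun Z k hk => ?_⟩
  · rw [GrothendieckTopology.mem_over_iff]
    exact ((Sieve.overEquiv X).apply_symm_apply R).symm ▸ hR
  · have h' := hR' k.left ((Sieve.overEquiv_symm_iff R k).1 hk)
    rw [Category.comp_id, Over.w k] at h'
    show _ ∈ aI (gList a) Z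
    rw [aI_gList]
    exact h'

variable [PreservesFiniteLimits (resData φ).G]

include hI' hflat hinj hsurj ha in
/-- The unit of extension of scalars on a complex is inverted by cones along generators. -/
theorem kzMor_etaCx (X : CochainComplex (ModSite.Mod O) ℤ) :
    KZMor a (DerivedCategory.Q.map (etaCx φ X)) := by
  let ψ := overMap φ V
  haveI : PreservesFiniteLimits (resData ψ).G :=
    preservesFiniteLimits_resData ψ (hasLocalTriv_over φ V hflat)
  let rV := ModSite.restr O V
  let rC := rV.mapHomologicalComplex (ComplexShape.up ℤ)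
  let Y := CochainComplex.mappingCone (etaCx φ X)
  refine (kz_obj₃_iff a (DerivedCategory.Q.mapTriangle.obj (CochainComplex.mappingCone.triangle (etaCx φ X)))
    (DerivedCategory.mappingCone_triangle_distinguished _)).1 (kz_of_isZero a (restrCx Y V) (restrDQ V Y) ?_)
  let αf : ∀ n, (tF ψ).obj (rV.obj (X.X n)) ⟶ rV.obj ((tF φ).obj (X.X n)) := fun n =>
    (resData ψ).F.map (cmpOver φ V (X.X n))
  haveI : ∀ n, IsIso (αf n) := fun n => Functor.map_isIso _ _
  let α : ((tF ψ).mapHomologicalComplex (ComplexShape.up ℤ)).obj (rC.obj X) ≅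
      rC.obj (((tF φ).mapHomologicalComplex (ComplexShape.up ℤ)).obj X) :=
    HomologicalComplex.Hom.isoOfComponents (fun n => asIso (αf n)) fun i j _ => by
      show (resData ψ).F.map (cmpOver φ V (X.X i)) ≫ rV.map ((tF φ).map (X.d i j)) =
        (resData ψ).F.map ((resData ψ).G.map (rV.map (X.d i j))) ≫ (resData ψ).F.map (cmpOver φ V (X.X j))
      rw [← Functor.map_comp, cmpOver_natural, Functor.map_comp]
      rfl
  have hα : etaCx ψ (rC.obj X) ≫ α.hom = rC.map (etaCx φ X) :=
    HomologicalComplex.hom_ext _ _ fun n => unit_cmpOver φ V (X.X n)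
  have h0 := isZero_kos_cone_etaCx (φ := ψ) (condA_over φ I I' hI' hsurj a ha)
    (condB_over φ I I' hI' hinj a ha) (rC.obj X)
  let e : CochainComplex.mappingCone (etaCx ψ (rC.obj X)) ⟶ CochainComplex.mappingCone (rC.map (etaCx φ X)) :=
    CochainComplex.mappingCone.map _ _ (𝟙 _) α.hom (by rw [Category.id_comp]; exact hα)
  let e' : CochainComplex.mappingCone (rC.map (etaCx φ X)) ⟶ CochainComplex.mappingCone (etaCx ψ (rC.obj X)) :=
    CochainComplex.mappingCone.map _ _ (𝟙 _) α.inv (by
      rw [Category.id_comp, ← hα, Category.assoc, α.hom_inv_id, Category.comp_id])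
  let E : CochainComplex.mappingCone (etaCx ψ (rC.obj X)) ≅ CochainComplex.mappingCone (rC.map (etaCx φ X)) :=
    { hom := e
      inv := e'
      hom_inv_id := by
        simp [e, e', ← CochainComplex.mappingCone.map_comp, CochainComplex.mappingCone.map_id]
      inv_hom_id := by
        simp [e, e', ← CochainComplex.mappingCone.map_comp, CochainComplex.mappingCone.map_id] }
  exact h0.of_iso (DerivedCategory.Q.mapIso ((kos (gList a)).mapIso
    (CochainComplex.mappingCone.mapHomologicalComplexIso (etaCx φ X) rV ≪≫ E.symm)))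

omit [PreservesFiniteLimits (resData φ).G] in
/-- Koszul vanishing passes to restrictions of scalars. -/
theorem kz_restrict {E : DerivedCategory (ModSite.Mod O')} (h : KZ (aImg φ a) E) :
    KZ a ((resData φ).F.mapDerivedCategory.obj E) := by
  obtain ⟨L, hL, -, ⟨e⟩⟩ := exists_kInj_rep E
  haveI := hL
  obtain ⟨N, η, hN, hη, -, -⟩ := DCat.exists_kInj_res (pushCx (resData φ) L)
  have hQ : IsIso (DerivedCategory.Q.map η) :=
    Localization.inverts DerivedCategory.Q (HomologicalComplex.quasiIso _ _) η hη
  let eR : (resData φ).F.mapDerivedCategory.obj E ≅ DerivedCategory.Q.obj N :=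
    (resData φ).F.mapDerivedCategory.mapIso e ≪≫ (resData φ).F.mapDerivedCategoryFactors.app L ≪≫
      @asIso _ _ _ _ (DerivedCategory.Q.map η) hQ
  refine kz_of_isZero a (restrCx N V) ((restrD V).mapIso eR ≪≫ restrDQ V N) ?_
  exact isZero_kos_push (resData φ) L η V a (locFlat_id J)
    (h.isZero _ (restrCx L V) ((restrD _).mapIso e ≪≫ restrDQ _ L))

include hI' ha in
omit [PreservesFiniteLimits (resData φ).G] in
/-- Restriction of the completion map is inverted by cones along generators. -/
theorem kzMor_restrict_completion [DerComp.HasDerCompletion O' I']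
    (M : DerivedCategory (ModSite.Mod O')) :
    KZMor a ((resData φ).F.mapDerivedCategory.map (DerComp.toDerCompletion I' M)) := by
  obtain ⟨Z, p, q, hT⟩ := distinguished_cocone_triangle (DerComp.toDerCompletion I' M)
  refine (kz_obj₃_iff a _ ((resData φ).F.mapDerivedCategory.map_distinguished _ hT)).1
    (kz_restrict φ a ((kz_obj₃_iff _ _ hT).2 (kzMor_toDerCompletion _ I'
      (fun W f hf => locallyInSpan_img φ I I' hI' a ha hf) M)))

end Groth.Agent.FlatCx12.DerEquiv
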