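import Groth.Agent.HTop16.PullOverApps
import Groth.Agent.FlatCx12.DerEquiv.FlatId
import Groth.Agent.DerCompLib.SecData

/-!
# Extension of scalars commutes with localisation of the site
-/

set_option autoImplicit false
set_option backward.isDefEq.respectTransparency false
set_option backward.isDefEq.respectTransparency.types false
set_option linter.all false

universe u

open CategoryTheory CategoryTheory.Limits Opposite

namespace Groth.Agent.FlatCx12.DerEquiv

open DerCompLib (Sec secRes secMap resData ringMap)
open HTop16 SiteHom16

variable {C : Type u} [SmallCategory C] {J : GrothendieckTopology C} {O O' : Sheaf J CommRingCat.{u}}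
  (φ : O ⟶ O') (V : C)

/-- `φ` on the localised site. -/
noncomputable abbrev overMap : O.over V ⟶ O'.over V :=
  ((Over.forget V).sheafPushforwardContinuous CommRingCat.{u} (J.over V) J).map φ

theorem hasLocalTriv_over (h : ModSite.IsFlat (algMod φ)) : HasLocalTriv (algMod (overMap φ V)) :=
  hasLocalTriv_of_isFlat (F := algMod (overMap φ V)) (SiteTen.isFlat_restr h V)

/-- The restricted unit. -/
noncomputable def unitOver (X : ModSite.Mod O) : (ModSite.restr O V).obj X ⟶
    (SheafOfModules.restrictScalars.{u} (ringMap (overMap φ V))).obj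
      ((ModSite.restr O' V).obj ((resData φ).G.obj X)) :=
  (ModSite.restr O V).map ((resData φ).adj.unit.app X)

/-- Maps out of the restriction of the extension of scalars. -/
noncomputable def corepOver (X : ModSite.Mod O) (N : ModSite.Mod (O'.over V)) :
    ((ModSite.restr O' V).obj ((resData φ).G.obj X) ⟶ N) ≃
      ((ModSite.restr O V).obj X ⟶ (SheafOfModules.restrictScalars.{u} (ringMap (overMap φ V))).obj N) :=
  PullOver.pullCorep (idMor φ) X V N

lemma corepOver_id (X : ModSite.Mod O) : corepOver φ V X _ (𝟙 _) = unitOver φ V X := by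
  refine SheafOfModules.hom_ext (PresheafOfModules.hom_ext fun o => ModuleCat.hom_ext (LinearMap.ext fun s => ?_))
  show ((resData φ).G.obj X).val.map ((𝟙 o.unop.left) : o.unop.left ⟶ o.unop.left).op
    (((resData φ).adj.unit.app X).val.app (op o.unop.left) s) = _
  exact ConcreteCategory.congr_hom (((resData φ).G.obj X).val.presheaf.map_id _) _

lemma corepOver_apply (X : ModSite.Mod O) (N : ModSite.Mod (O'.over V))
    (b : (ModSite.restr O' V).obj ((resData φ).G.obj X) ⟶ N) :
    corepOver φ V X N b =
      unitOver φ V X ≫ (SheafOfModules.restrictScalars.{u} (ringMap (overMap φ V))).map b := by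
  have h := PullOver.pullCorep_comp (idMor φ) X V (𝟙 _) b
  rw [Category.id_comp] at h
  rw [← corepOver_id]
  exact h

/-- The comparison. -/
noncomputable def cmpOver (X : ModSite.Mod O) :
    (resData (overMap φ V)).G.obj ((ModSite.restr O V).obj X) ⟶
      (ModSite.restr O' V).obj ((resData φ).G.obj X) :=
  ((resData (overMap φ V)).adj.homEquiv _ _).symm (unitOver φ V X)

lemma unit_cmpOver (X : ModSite.Mod O) :
    (resData (overMap φ V)).adj.unit.app ((ModSite.restr O V).obj X) ≫
      (SheafOfModules.restrictScalars.{u} (ringMap (overMap φ V))).map (cmpOver φ V X) = unitOver φ V X :=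
  (((resData (overMap φ V)).adj.homEquiv_unit (f := cmpOver φ V X)).symm.trans
    (Equiv.apply_symm_apply _ _))

instance isIso_cmpOver (X : ModSite.Mod O) : IsIso (cmpOver φ V X) := by
  let adj := (resData (overMap φ V)).adj
  let R := SheafOfModules.restrictScalars.{u} (ringMap (overMap φ V))
  let Y := (ModSite.restr O V).obj X
  let β := (corepOver φ V X _).symm (adj.unit.app Y)
  have hβ : unitOver φ V X ≫ R.map β = adj.unit.app Y :=
    (corepOver_apply φ V X _ β).symm.trans (Equiv.apply_symm_apply _ _)
  refine ⟨β, ?_, ?_⟩
  · apply (adj.homEquiv _ _).injective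
    rw [adj.homEquiv_unit, adj.homEquiv_unit]
    show adj.unit.app Y ≫ R.map (cmpOver φ V X ≫ β) = adj.unit.app Y ≫ R.map (𝟙 _)
    rw [R.map_comp, ← Category.assoc, unit_cmpOver φ V X, hβ, R.map_id]
    exact (Category.comp_id _).symm
  · apply (corepOver φ V X _).injective
    rw [corepOver_apply, corepOver_apply, R.map_comp, reassoc_of% hβ, R.map_id, Category.comp_id]
    exact unit_cmpOver φ V X

lemma cmpOver_natural {X Y : ModSite.Mod O} (g : X ⟶ Y) :
    (resData (overMap φ V)).G.map ((ModSite.restr O V).map g) ≫ cmpOver φ V Y =
      cmpOver φ V X ≫ (ModSite.restr O' V).map ((resData φ).G.map g) := by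
  let adj := (resData (overMap φ V)).adj
  apply (adj.homEquiv _ _).injective
  rw [adj.homEquiv_naturality_left, adj.homEquiv_naturality_right]
  simp only [cmpOver, Equiv.apply_symm_apply, adj]
  show (ModSite.restr O V).map g ≫ (ModSite.restr O V).map ((resData φ).adj.unit.app Y) =
    (ModSite.restr O V).map ((resData φ).adj.unit.app X) ≫
      (ModSite.restr O V).map ((resData φ).F.map ((resData φ).G.map g))
  rw [← Functor.map_comp, ← Functor.map_comp]
  exact congrArg _ ((resData φ).adj.unit.naturality g)

end Groth.Agent.FlatCx12.DerEquiv
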